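import Mathlib.RingTheory.Spectrum.Prime.Topology
import Mathlib.RingTheory.Ideal.MinimalPrime.Noetherian
import Mathlib.Topology.Connected.Clopen

/-!
# Connected components of a Noetherian spectrum
-/

set_option autoImplicit false

universe u

namespace Groth.Agent.H9Milnor

/-- A Noetherian spectrum has finitely many connected components. -/
theorem finite_connectedComponents (T : Type u) [CommRing T] [IsNoetherianRing T] :
    Finite (ConnectedComponents (PrimeSpectrum T)) := by
  haveI := (minimalPrimes.finite_of_isNoetherianRing T).to_subtype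
  refine Finite.of_surjective (fun p : minimalPrimes T =>
    ConnectedComponents.mk (⟨p.1, p.2.isPrime⟩ : PrimeSpectrum T)) fun c => ?_
  obtain ⟨x, rfl⟩ := ConnectedComponents.surjective_coe c
  obtain ⟨p, hp, hle⟩ := Ideal.exists_minimalPrimes_le (bot_le : (⊥ : Ideal T) ≤ x.asIdeal)
  refine ⟨⟨p, hp⟩, ConnectedComponents.coe_eq_coe'.mpr ?_⟩
  have hsp : (⟨p, hp.isPrime⟩ : PrimeSpectrum T) ⤳ x :=
    (PrimeSpectrum.le_iff_specializes _ _).mp (PrimeSpectrum.asIdeal_le_asIdeal _ _ |>.mp hle)
  have hx : x ∈ connectedComponent (⟨p, hp.isPrime⟩ : PrimeSpectrum T) :=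
    hsp.mem_closed isClosed_connectedComponent mem_connectedComponent
  exact (connectedComponent_eq hx) ▸ mem_connectedComponent

end Groth.Agent.H9Milnor
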