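import Groth.Agent.H9Milnor.Ramification
import Groth.Agent.H9SInter.Core
import Groth.Agent.H9SInter.Finite
import Groth.Agent.S4433
import Mathlib.RingTheory.TensorProduct.Free
import Mathlib.RingTheory.Localization.BaseChange

/-!
# The algebraic generic fibre of a local algebra over a henselian discrete valuation ring is Noetherian
-/

set_option autoImplicit false
set_option linter.style.haveILetI false

universe u

open IsLocalRing Polynomial
open scoped TensorProduct

noncomputable section

namespace Groth.Agent.H9Milnor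

/-- A finite extension of the fraction field tensored with a Noetherian algebra is Noetherian. -/
theorem isNoetherianRing_finite_tensor {V K E B : Type u} [CommRing V] [IsDomain V] [Field K] [Algebra V K]
    [IsFractionRing V K] [Field E] [Algebra K E] [Algebra V E] [IsScalarTower V K E] [FiniteDimensional K E]
    [CommRing B] [Algebra V B] [IsNoetherianRing B] : IsNoetherianRing (E ⊗[V] B) := by
  let N := Algebra.algebraMapSubmonoid B (nonZeroDivisors V)
  haveI : IsLocalization N (B ⊗[V] K) := inferInstance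
  haveI : IsNoetherianRing (B ⊗[V] K) := IsLocalization.isNoetherianRing N _ inferInstance
  let b := Module.finBasis K E
  let j : B ⊗[V] K →ₐ[V] E ⊗[V] B := Algebra.TensorProduct.lift Algebra.TensorProduct.includeRight
    ((Algebra.TensorProduct.includeLeft : E →ₐ[V] E ⊗[V] B).comp (IsScalarTower.toAlgHom V K E))
    fun _ _ => Commute.all _ _
  let f : MvPolynomial (Fin (Module.finrank K E)) (B ⊗[V] K) →+* E ⊗[V] B :=
    MvPolynomial.eval₂Hom j.toRingHom fun i => b i ⊗ₜ 1
  refine isNoetherianRing_of_surjective _ _ f fun x => ?_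
  induction x with
  | zero => exact ⟨0, map_zero f⟩
  | add x y hx hy =>
    obtain ⟨p, rfl⟩ := hx
    obtain ⟨q, rfl⟩ := hy
    exact ⟨p + q, map_add f p q⟩
  | tmul a c =>
    refine ⟨∑ i, MvPolynomial.C (c ⊗ₜ[V] b.repr a i) * MvPolynomial.X i, ?_⟩
    rw [map_sum]
    conv_rhs => rw [← b.sum_repr a, TensorProduct.sum_tmul]
    refine Finset.sum_congr rfl fun i _ => ?_
    show MvPolynomial.eval₂Hom j.toRingHom _ _ = _
    rw [map_mul, MvPolynomial.eval₂Hom_C, MvPolynomial.eval₂Hom_X']
    show j (c ⊗ₜ[V] b.repr a i) * b i ⊗ₜ 1 = _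
    rw [Algebra.TensorProduct.lift_tmul]
    simp [Algebra.TensorProduct.tmul_mul_tmul, Algebra.smul_def]

/-- The subfield of an algebraic extension met by a dominated fraction field is finite. -/
theorem finiteDimensional_of_valuation {V : Type u} [CommRing V] [IsDomain V] [IsDiscreteValuationRing V]
    [HenselianLocalRing V] [IsAlgClosed (ResidueField V)] {K L : Type u} [Field K] [Algebra V K]
    [IsFractionRing V K] [Field L] [Algebra K L] [Algebra V L] [IsScalarTower V K L] [Algebra.IsSeparable K L]
    (K'' : IntermediateField K L) {F : Type u} [Field F] (O : ValuationSubring F) [IsDiscreteValuationRing O]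
    (τ : K'' →+* F) {π : V} (hπ : Irreducible π)
    (hτO : ∀ v : V, τ (algebraMap V K'' v) ∈ O)
    (hπO : ¬ IsUnit (⟨_, hτO π⟩ : O)) : FiniteDimensional K K'' := by
  have hπ0 : (⟨_, hτO π⟩ : O) ≠ 0 := fun h0 => hπ.ne_zero (by
    have h1 : algebraMap V K'' π = 0 := τ.injective ((congrArg Subtype.val h0).trans (map_zero τ).symm)
    have h2 : algebraMap V L π = 0 := congrArg Subtype.val h1
    rw [IsScalarTower.algebraMap_apply V K L] at h2
    exact IsFractionRing.injective V K ((map_eq_zero _).mp h2 |>.trans (map_zero _).symm))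
  obtain ⟨t₀, ht₀⟩ := IsDiscreteValuationRing.exists_irreducible O
  obtain ⟨n₀, u₀, hu₀⟩ := IsDiscreteValuationRing.eq_unit_mul_pow_irreducible hπ0 ht₀
  have hn : ∀ t : O, ¬ IsUnit t → ¬ t ^ (n₀ + 1) ∣ (⟨_, hτO π⟩ : O) := by
    intro t ht hdvd
    have h1 : t₀ ∣ t := Ideal.mem_span_singleton.mp (ht₀.maximalIdeal_eq ▸ (mem_maximalIdeal _).mpr ht)
    have h2 : t₀ ^ (n₀ + 1) ∣ t₀ ^ n₀ := by
      have := (pow_dvd_pow_of_dvd h1 (n₀ + 1)).trans hdvd
      rw [hu₀] at this
      exact (u₀.isUnit.dvd_mul_left).mp this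
    exact absurd ((pow_dvd_pow_iff ht₀.ne_zero ht₀.not_isUnit).mp h2) (by omega)
  haveI : Algebra.IsSeparable K K'' := inferInstance
  refine H9SInter.finiteDimensional_of_bound (n := n₀ + 1) fun a => ?_
  have hint : IsIntegral K a := (Algebra.IsSeparable.isSeparable K a).isIntegral
  let E := IntermediateField.adjoin K ({a} : Set K'')
  haveI : FiniteDimensional K E := IntermediateField.adjoin.finiteDimensional hint
  let g : E →+* F := τ.comp E.val.toRingHom
  let ψ : integralClosure V E →+* O := (g.comp (integralClosure V E).val.toRingHom).codRestrict O.toSubring fun w => by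
    show g (w : E) ∈ O
    obtain ⟨p, hp, hp0⟩ := w.2
    let h : V →+* O := (τ.comp (algebraMap V K'')).codRestrict O.toSubring hτO
    have h1 : IsIntegral O (g (w : E)) := by
      refine ⟨p.map h, hp.map h, ?_⟩
      rw [Polynomial.eval₂_map]
      have := congrArg g hp0
      rw [map_zero, Polynomial.hom_eval₂] at this
      rw [show g.comp (algebraMap V E) = (algebraMap O F).comp h from RingHom.ext fun v => rfl] at this
      exact this
    obtain ⟨z, hz⟩ := IsIntegrallyClosed.isIntegral_iff.mp h1
    exact hz ▸ z.2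
  have hlt : Module.finrank K E < n₀ + 1 := finrank_lt_of_hom ψ hπ
    (show ¬ IsUnit (⟨_, hτO π⟩ : O) from hπO) hn
  rw [← IntermediateField.adjoin.finrank hint]
  exact hlt.le

/-- The kernel of a point of the generic fibre is finitely generated. -/
theorem fg_of_isPrime {V : Type u} [CommRing V] [IsDomain V] [IsDiscreteValuationRing V] [HenselianLocalRing V]
    [IsAlgClosed (ResidueField V)] [CharZero V] {L : Type u} [Field L] [IsAlgClosed L] [Algebra V L]
    [FaithfulSMul V L] [Algebra.IsAlgebraic V L] {B : Type u} [CommRing B] [IsLocalRing B] [IsNoetherianRing B]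
    [Algebra V B] [IsLocalHom (algebraMap V B)] (P : Ideal (L ⊗[V] B)) [P.IsPrime] : P.FG := by
  classical
  let K := FractionRing V
  letI : Algebra K L := (IsFractionRing.lift (FaithfulSMul.algebraMap_injective V L)).toAlgebra
  haveI : IsScalarTower V K L := IsScalarTower.of_algebraMap_eq fun v =>
    (IsFractionRing.lift_algebraMap (FaithfulSMul.algebraMap_injective V L) v).symm
  haveI : CharZero K := charZero_of_injective_algebraMap (IsFractionRing.injective V K)
  haveI : Algebra.IsAlgebraic K L := Algebra.IsAlgebraic.extendScalars (IsFractionRing.injective V K)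
  haveI : Algebra.IsSeparable K L := inferInstance
  obtain ⟨Ω, _, _, μ, hμ⟩ : ∃ (Ω : Type u) (_ : Field Ω) (_ : Algebra V Ω) (μ : L ⊗[V] B →ₐ[V] Ω),
      RingHom.ker μ.toRingHom = P := by
    refine ⟨FractionRing ((L ⊗[V] B) ⧸ P), inferInstance, inferInstance,
      (IsScalarTower.toAlgHom V ((L ⊗[V] B) ⧸ P) _).comp (Ideal.Quotient.mkₐ V P), ?_⟩
    ext x
    show algebraMap ((L ⊗[V] B) ⧸ P) _ (Ideal.Quotient.mk P x) = 0 ↔ _
    rw [map_eq_zero_iff _ (IsFractionRing.injective _ _), Ideal.Quotient.eq_zero_iff_mem]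
  let σ : L →ₐ[V] Ω := μ.comp Algebra.TensorProduct.includeLeft
  let β : B →ₐ[V] Ω := μ.comp Algebra.TensorProduct.includeRight
  have hσβ : ∀ a b, μ (a ⊗ₜ[V] b) = σ a * β b := fun a b => by
    show μ _ = μ _ * μ _
    rw [← map_mul]
    simp
  let p := RingHom.ker β.toRingHom
  haveI : p.IsPrime := RingHom.ker_isPrime _
  let F := FractionRing (B ⧸ p)
  obtain ⟨jF, hjF⟩ : ∃ j : F →+* Ω, ∀ b, j (algebraMap (B ⧸ p) F (Ideal.Quotient.mk p b)) = β b :=
    ⟨IsFractionRing.lift (RingHom.kerLift_injective β.toRingHom), fun b =>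
      (IsFractionRing.lift_algebraMap (RingHom.kerLift_injective β.toRingHom) _).trans (RingHom.kerLift_mk _ b)⟩
  have hV : ∀ v : V, β (algebraMap V B v) = σ (algebraMap V L v) := fun v => by
    rw [β.commutes, σ.commutes]
  obtain ⟨π, hπ⟩ := IsDiscreteValuationRing.exists_irreducible V
  have hπB : algebraMap V B π ∈ maximalIdeal B :=
    map_nonunit (algebraMap V B) π ((mem_maximalIdeal _).mpr hπ.not_isUnit)
  have hπ0 : Ideal.Quotient.mk p (algebraMap V B π) ≠ 0 := by
    rw [Ne, Ideal.Quotient.eq_zero_iff_mem]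
    intro h0
    refine hπ.ne_zero (FaithfulSMul.algebraMap_injective V L (σ.toRingHom.injective ?_))
    rw [map_zero, map_zero]
    exact (hV π).symm.trans h0
  haveI : IsLocalRing (B ⧸ p) := .of_surjective' (Ideal.Quotient.mk p) Ideal.Quotient.mk_surjective
  have hπm : Ideal.Quotient.mk p (algebraMap V B π) ∈ maximalIdeal (B ⧸ p) := by
    rw [mem_maximalIdeal]
    intro hu
    haveI : IsLocalHom (Ideal.Quotient.mk p) := IsLocalHom.of_surjective _ Ideal.Quotient.mk_surjective
    exact (mem_maximalIdeal _).mp hπB (isUnit_of_map_unit (Ideal.Quotient.mk p) _ hu)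
  have hnf : ¬ IsField (B ⧸ p) := fun hf => by
    letI := hf.toField
    exact (mem_maximalIdeal _).mp hπm (IsUnit.mk0 _ hπ0)
  obtain ⟨O, hO, hBO, hmO⟩ := Groth.Agent.S4433.result (B ⧸ p) hnf F F
    (by rw [show (⊤ : IntermediateField F F) = ⊥ from (eq_bot_iff.mpr fun x _ => (⊥ : IntermediateField F F).algebraMap_mem x)]; exact IntermediateField.fg_bot)
  haveI := hO
  -- the finite field met by the component
  let K'' : IntermediateField K L :=
    { jF.fieldRange.comap σ.toRingHom with
      algebraMap_mem' := fun c => by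
        obtain ⟨a, b, -, rfl⟩ := IsFractionRing.div_surjective (A := V) c
        show σ (algebraMap K L (algebraMap V K a / algebraMap V K b)) ∈ jF.fieldRange
        rw [map_div₀, map_div₀, ← IsScalarTower.algebraMap_apply, ← IsScalarTower.algebraMap_apply, ← hV, ← hV,
          ← hjF, ← hjF, ← map_div₀]
        exact ⟨_, rfl⟩ }
  have hτ : ∀ a : K'', ∃ y : F, jF y = σ a := fun a => a.2
  choose τ₀ hτ₀ using hτ
  let τ : K'' →+* F :=
    { toFun := τ₀
      map_one' := jF.injective (by rw [hτ₀, map_one]; exact map_one σ)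
      map_mul' := fun a b => jF.injective (by rw [map_mul, hτ₀, hτ₀, hτ₀]; exact map_mul σ _ _)
      map_zero' := jF.injective (by rw [hτ₀, map_zero]; exact map_zero σ)
      map_add' := fun a b => jF.injective (by rw [map_add, hτ₀, hτ₀, hτ₀]; exact map_add σ _ _) }
  have hτV : ∀ v : V, τ (algebraMap V K'' v) = algebraMap (B ⧸ p) F (Ideal.Quotient.mk p (algebraMap V B v)) :=
    fun v => jF.injective (by
      rw [hjF, hV]
      exact hτ₀ _)
  have hτO : ∀ v : V, τ (algebraMap V K'' v) ∈ O := fun v => by rw [hτV]; exact hBO _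
  have hfin : FiniteDimensional K K'' := by
    refine finiteDimensional_of_valuation K'' O τ hπ hτO fun hu => ?_
    have h1 := (O.valuation_eq_one_iff _).mp hu
    have h2 := hmO _ hπm
    rw [← hτV] at h2
    exact h2.ne h1
  haveI := hfin
  -- the finite level
  haveI : IsNoetherianRing (K'' ⊗[V] B) := isNoetherianRing_finite_tensor (K := K)
  let g : K'' ⊗[V] B →ₐ[V] L ⊗[V] B :=
    Algebra.TensorProduct.map (K''.val.restrictScalars V) (AlgHom.id V B)
  suffices hgen : P = (P.comap g.toRingHom).map g.toRingHom by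
    rw [hgen]
    exact Ideal.FG.map (IsNoetherian.noetherian _) _
  refine le_antisymm (fun x hx => ?_) Ideal.map_comap_le
  obtain ⟨S, rfl⟩ := TensorProduct.exists_finset x
  let E : IntermediateField K'' L := IntermediateField.adjoin K'' (S.image Prod.fst : Set L)
  haveI : Algebra.IsSeparable K'' L := Algebra.isSeparable_tower_top_of_isSeparable K K'' L
  haveI : FiniteDimensional K'' E := IntermediateField.finiteDimensional_adjoin fun a _ =>
    (Algebra.IsSeparable.isSeparable K'' a).isIntegral
  obtain ⟨θ, hθ⟩ := Field.exists_primitive_element K'' E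
  have hθint : IsIntegral K'' θ := (Algebra.IsSeparable.isSeparable K'' θ).isIntegral
  let d := (minpoly K'' θ).natDegree
  have hcoef : ∀ i ∈ S, ∃ q : K''[X], q.natDegree < d ∧ aeval (θ : L) q = i.1 := by
    intro i hi
    have hiE : i.1 ∈ E := IntermediateField.subset_adjoin _ _ (Finset.mem_coe.mpr (Finset.mem_image_of_mem _ hi))
    have h1 : (⟨i.1, hiE⟩ : E) ∈ IntermediateField.adjoin K'' ({θ} : Set E) := by rw [hθ]; trivial
    rw [← IntermediateField.mem_toSubalgebra,
      IntermediateField.adjoin_simple_toSubalgebra_of_isAlgebraic hθint.isAlgebraic,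
      Algebra.adjoin_singleton_eq_range_aeval] at h1
    obtain ⟨q, hq⟩ := h1
    refine ⟨q %ₘ minpoly K'' θ, natDegree_modByMonic_lt q (minpoly.monic hθint) (minpoly.ne_one K'' θ), ?_⟩
    rw [show (θ : L) = E.val θ from rfl, aeval_algHom_apply,
      aeval_modByMonic_eq_self_of_root (minpoly.aeval _ _)]
    exact congrArg Subtype.val hq
  choose! q hqd hqa using hcoef
  let t : ℕ → K'' ⊗[V] B := fun k => ∑ i ∈ S, ((q i).coeff k) ⊗ₜ[V] i.2
  have hxs : ∑ i ∈ S, i.1 ⊗ₜ[V] i.2 = ∑ k ∈ Finset.range d, (((θ : L) ^ k) ⊗ₜ[V] (1 : B)) * g (t k) := by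
    simp only [t, map_sum, Finset.mul_sum]
    rw [Finset.sum_comm]
    refine Finset.sum_congr rfl fun i hi => ?_
    conv_lhs => rw [← hqa i hi, aeval_eq_sum_range' (hqd i hi), TensorProduct.sum_tmul]
    refine Finset.sum_congr rfl fun k _ => ?_
    simp [g, Algebra.TensorProduct.tmul_mul_tmul, Algebra.smul_def, mul_comm]
  -- values of the coefficients lie in `F`
  have hμg : ∀ z, μ (g z) ∈ jF.fieldRange := by
    intro z
    induction z with
    | zero => rw [map_zero, map_zero]; exact zero_mem _
    | add a b ha hb => rw [map_add, map_add]; exact add_mem ha hb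
    | tmul a b =>
      rw [Algebra.TensorProduct.map_tmul, hσβ]
      exact mul_mem a.2 ⟨_, hjF b⟩
  choose c hc using fun k => hμg (t k)
  letI : Algebra K'' F := τ.toAlgebra
  letI : Algebra F Ω := jF.toAlgebra
  letI : Algebra K'' Ω := (σ.toRingHom.comp (algebraMap K'' L)).toAlgebra
  haveI : IsScalarTower K'' F Ω := IsScalarTower.of_algebraMap_eq fun a => (hτ₀ a).symm
  let σK : L →ₐ[K''] Ω := { σ.toRingHom with commutes' := fun _ => rfl }
  have hclosed : ∀ y : F, IsSeparable K'' y → y ∈ Set.range (algebraMap K'' F) := by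
    intro y hy
    have hsp : ((minpoly K'' y).map (algebraMap K'' L)).Splits := IsAlgClosed.splits _
    have h1 : jF y ∈ Set.range σ := by
      have h2 : aeval (jF y) (minpoly K'' y) = 0 := by
        rw [show jF y = algebraMap F Ω y from rfl, aeval_algebraMap_apply, minpoly.aeval, map_zero]
      rw [← eval_map_algebraMap, show algebraMap K'' Ω = σK.toRingHom.comp (algebraMap K'' L) from rfl, ← map_map,
        hsp.eq_prod_roots_of_monic ((minpoly.monic hy.isIntegral).map _), Polynomial.map_multiset_prod,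
        Multiset.map_map, eval_multiset_prod, Multiset.prod_eq_zero_iff, Multiset.map_map, Multiset.mem_map] at h2
      obtain ⟨r, -, hr⟩ := h2
      refine ⟨r, ?_⟩
      simp only [Function.comp_apply, Polynomial.map_sub, map_X, map_C, eval_sub, eval_X, eval_C, sub_eq_zero] at hr
      exact hr.symm
    obtain ⟨r, hr⟩ := h1
    exact ⟨⟨r, ⟨y, hr.symm⟩⟩, jF.injective ((hτ₀ _).trans hr)⟩
  have hθsep := Algebra.IsSeparable.isSeparable K'' θ
  have hirr := H9SInter.irreducible_map_of_sep hclosed (minpoly.monic hθint) (minpoly.irreducible hθint) hθsep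
  let Q : F[X] := ∑ k ∈ Finset.range d, Polynomial.C (c k) * Polynomial.X ^ k
  have hQ0 : aeval (σK (θ : L)) Q = 0 := by
    rw [← hμ, hxs, RingHom.mem_ker] at hx
    rw [← hx, map_sum]
    simp only [Q, map_sum, map_mul, aeval_C, aeval_X_pow]
    refine Finset.sum_congr rfl fun k _ => ?_
    show jF (c k) * σ (θ : L) ^ k = μ _ * μ _
    rw [hc, hσβ, map_one, mul_one, map_pow, mul_comm]
  have hroot : aeval (σK (θ : L)) ((minpoly K'' θ).map (algebraMap K'' F)) = 0 := by
    rw [aeval_map_algebraMap, show (θ : L) = E.val θ from rfl, ← AlgHom.comp_apply, aeval_algHom_apply,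
      minpoly.aeval, map_zero]
  have hQ : Q = 0 := by
    by_contra hne
    have h1 := natDegree_le_natDegree (minpoly.degree_le_of_ne_zero F _ hne hQ0)
    rw [← minpoly.eq_of_irreducible_of_monic hirr hroot ((minpoly.monic hθint).map _),
      (minpoly.monic hθint).natDegree_map] at h1
    have h2 : Q.degree < (d : WithBot ℕ) := (degree_sum_le _ _).trans_lt ((Finset.sup_lt_iff (WithBot.bot_lt_coe d)).mpr fun k hk => (degree_C_mul_X_pow_le k (c k)).trans_lt (WithBot.coe_lt_coe.mpr (Finset.mem_range.mp hk)))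
    exact absurd ((natDegree_lt_iff_degree_lt hne).mpr h2) (not_lt.mpr h1)
  rw [hxs]
  refine Ideal.sum_mem _ fun k hk => Ideal.mul_mem_left _ _ (Ideal.mem_map_of_mem g.toRingHom ?_)
  rw [Ideal.mem_comap, ← hμ, RingHom.mem_ker]
  show μ (g (t k)) = 0
  rw [← hc k, show c k = Q.coeff k by simp [Q, Finset.mem_range.mp hk], hQ, coeff_zero, map_zero]

/-- The algebraic generic fibre is Noetherian. -/
theorem isNoetherianRing_tensor {V : Type u} [CommRing V] [IsDomain V] [IsDiscreteValuationRing V]
    [HenselianLocalRing V] [IsAlgClosed (ResidueField V)] [CharZero V] {L : Type u} [Field L] [IsAlgClosed L]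
    [Algebra V L] [FaithfulSMul V L] [Algebra.IsAlgebraic V L] {B : Type u} [CommRing B] [IsLocalRing B]
    [IsNoetherianRing B] [Algebra V B] [IsLocalHom (algebraMap V B)] : IsNoetherianRing (L ⊗[V] B) :=
  IsNoetherianRing.of_prime fun P hP => haveI := hP; fg_of_isPrime P

end Groth.Agent.H9Milnor
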