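import Groth.Agent.H9Hens.BranchCore
import Mathlib.RingTheory.DedekindDomain.IntegralClosure
import Mathlib.RingTheory.DiscreteValuationRing.TFAE
import Mathlib.FieldTheory.IsAlgClosed.Basic

/-!
# Totally ramified extensions have bounded degree inside a dominated local ring
-/

set_option autoImplicit false
set_option linter.style.haveILetI false

universe u

open IsLocalRing

noncomputable section

namespace Groth.Agent.H9Milnor

/-- Over a henselian discrete valuation ring with algebraically closed residue field, a finite separable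
extension mapping to a local ring has degree bounded by the order of the uniformizer there. -/
theorem finrank_lt_of_hom {V : Type u} [CommRing V] [IsDomain V] [IsDiscreteValuationRing V] [HenselianLocalRing V]
    [IsAlgClosed (ResidueField V)] {K E : Type u} [Field K] [Algebra V K] [IsFractionRing V K] [Field E]
    [Algebra K E] [Algebra V E] [IsScalarTower V K E] [FiniteDimensional K E] [Algebra.IsSeparable K E]
    {O : Type u} [CommRing O] [IsLocalRing O] (ψ : integralClosure V E →+* O) {π : V} (hπ : Irreducible π)
    (hπO : ¬ IsUnit (ψ (algebraMap V _ π))) {n : ℕ}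
    (hn : ∀ t : O, ¬ IsUnit t → ¬ t ^ n ∣ ψ (algebraMap V _ π)) :
    Module.finrank K E < n := by
  classical
  let W := integralClosure V E
  haveI : Module.Finite V W := IsIntegralClosure.finite V K E W
  haveI : IsDedekindDomain W := integralClosure.isDedekindDomain V K E
  haveI : IsLocalRing W := by
    obtain ⟨M, hM⟩ := Ideal.exists_maximal W
    exact IsLocalRing.of_unique_max_ideal ⟨M, hM, fun M' hM' =>
      haveI := hM; haveI := hM'
      H9Hens.maximal_eq_of_prime_le_of_isIntegral (R := V) (P := (⊥ : Ideal W)) bot_le bot_le⟩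
  haveI : FaithfulSMul V E := by
    refine (faithfulSMul_iff_algebraMap_injective V E).mpr ?_
    rw [IsScalarTower.algebraMap_eq V K E]
    exact (algebraMap K E).injective.comp (IsFractionRing.injective V K)
  have hinj : Function.Injective (algebraMap V W) := fun a b h =>
    FaithfulSMul.algebraMap_injective V E (congrArg Subtype.val h)
  have hπW : ¬ IsUnit (algebraMap V W π) := fun h => hπO (h.map ψ)
  have hnf : ¬ IsField W := fun hf => hπW (by
    letI := hf.toField
    exact IsUnit.mk0 _ fun h0 => hπ.ne_zero (hinj (h0.trans (map_zero _).symm)))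
  haveI : IsDiscreteValuationRing W :=
    ((IsDiscreteValuationRing.TFAE W hnf).out 2 0).mp (inferInstance : IsDedekindDomain W)
  haveI : IsLocalHom (algebraMap V W) := by
    refine ((local_hom_TFAE (algebraMap V W)).out 0 4).mpr ?_
    exact eq_maximalIdeal (Ideal.isMaximal_comap_of_isIntegral_of_isMaximal _)
  have hsurj : ∀ w : W, ∃ c : V, w - algebraMap V W c ∈ maximalIdeal W := by
    intro w
    haveI : Module.Finite (ResidueField V) (ResidueField W) := inferInstance
    obtain ⟨c, hc⟩ := (IsAlgClosed.algebraMap_bijective_of_isIntegral (k := ResidueField V)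
      (K := ResidueField W)).2 (residue W w)
    obtain ⟨c, rfl⟩ := residue_surjective c
    exact ⟨c, Ideal.Quotient.eq.mp hc.symm⟩
  obtain ⟨ϖ, hϖ⟩ := IsDiscreteValuationRing.exists_irreducible W
  have hm : maximalIdeal W = Ideal.span {ϖ} := hϖ.maximalIdeal_eq
  obtain ⟨e, u, he⟩ := IsDiscreteValuationRing.eq_unit_mul_pow_irreducible
    (fun h0 => hπ.ne_zero (hinj (h0.trans (map_zero _).symm))) hϖ
  have hϖO : ¬ IsUnit (ψ ϖ) := fun h => hπO (by
    rw [show algebraMap V _ π = (u : W) * ϖ ^ e from he, map_mul, map_pow]
    exact ((u.isUnit).map ψ).mul (h.pow e))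
  have hen : e < n := by
    by_contra hle
    refine hn _ hϖO ((pow_dvd_pow _ (not_lt.mp hle)).trans ?_)
    rw [show algebraMap V _ π = (u : W) * ϖ ^ e from he, map_mul, map_pow]
    exact Dvd.intro_left _ rfl
  let N : Submodule V W := Submodule.span V (Set.range fun i : Fin e => ϖ ^ (i : ℕ))
  have hstep : ∀ j, j ≤ e → ∀ w : W, ∃ x ∈ N, ∃ y : W, w = x + ϖ ^ j * y := by
    intro j
    induction j with
    | zero => exact fun _ w => ⟨0, zero_mem _, w, by simp⟩
    | succ j ih =>
      intro hj w
      obtain ⟨x, hx, y, rfl⟩ := ih (by omega) w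
      obtain ⟨c, hc⟩ := hsurj y
      rw [hm, Ideal.mem_span_singleton] at hc
      obtain ⟨z, hz⟩ := hc
      refine ⟨x + c • ϖ ^ j, add_mem hx (N.smul_mem c (Submodule.subset_span ⟨⟨j, hj⟩, rfl⟩)), z, ?_⟩
      rw [Algebra.smul_def, eq_add_of_sub_eq hz]
      ring
  have htop : N = ⊤ := by
    refine top_le_iff.mp (Submodule.le_of_le_smul_of_le_jacobson_bot (I := Ideal.span {π})
      Module.Finite.fg_top ?_ fun w _ => ?_)
    · rw [IsLocalRing.jacobson_eq_maximalIdeal _ bot_ne_top, Ideal.span_le, Set.singleton_subset_iff]
      exact (mem_maximalIdeal _).mpr hπ.not_isUnit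
    · obtain ⟨x, hx, y, rfl⟩ := hstep e le_rfl w
      refine Submodule.add_mem_sup hx ?_
      have : ϖ ^ e * y = π • ((↑u⁻¹ : W) * y) := by
        rw [Algebra.smul_def, he, mul_comm (u : W), mul_assoc, Units.mul_inv_cancel_left]
      rw [this]
      exact Submodule.smul_mem_smul (Ideal.mem_span_singleton_self π) Submodule.mem_top
  have hrank : Module.finrank V W = Module.finrank K E := IsIntegralClosure.rank V K E W
  have hle : Module.finrank V W ≤ e := by
    have h1 := finrank_range_le_card (R := V) (fun i : Fin e => ϖ ^ (i : ℕ))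
    rw [Set.finrank, show Submodule.span V (Set.range fun i : Fin e => ϖ ^ (i : ℕ)) = ⊤ from htop, finrank_top,
      Fintype.card_fin] at h1
    exact h1
  omega

end Groth.Agent.H9Milnor
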